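import Mathlib
import Groth.Prelude
import Groth.Agent.Lib.Helper8.KosDesc.Main
import Groth.Agent.Lib.Helper8.LCIHom.KRMap
import Groth.Agent.Lib.Helper8.Kos.KRIdeal

set_option autoImplicit false
set_option linter.style.haveILetI false

universe u

open CategoryTheory

attribute [local instance] HasDerivedCategory.standard

namespace Groth.Agent.H8.SyntSrc

open Groth.Agent.H8.KosIndep Groth.Agent.H8.KosDesc Groth.Agent.H8.LCIHom

/-- **local flat descent of Koszul-regular ideals**: `C → C'` flat of finite presentation,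
`I·C'` Koszul-regular; then `I` is Koszul-regular at every prime in the image of `Spec C'`. -/
theorem exists_away_of_flat_of_map (C C' : Type u) [CommRing C] [CommRing C'] [Algebra C C']
    [Module.Flat C C'] [Algebra.FinitePresentation C C'] (I : Ideal C)
    (h : LCI.IsKoszulRegularIdeal (I.map (algebraMap C C'))) (𝔮 : Ideal C') [𝔮.IsPrime]
    (hI𝔮 : I ≤ 𝔮.under C) :
    ∃ g : C, g ∉ 𝔮.under C ∧ ∃ l : List (Localization.Away g),
      LCI.IsKoszulRegularSeq (Localization.Away g) l ∧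
      I.map (algebraMap C (Localization.Away g)) = Ideal.span {x | x ∈ l} := by
  classical
  set 𝔭 : Ideal C := 𝔮.under C with h𝔭
  haveI h𝔭prime : 𝔭.IsPrime := Ideal.IsPrime.under C 𝔮
  -- open image
  have hopen : IsOpenMap (PrimeSpectrum.comap (algebraMap C C')) :=
    PrimeSpectrum.isOpenMap_comap_of_hasGoingDown_of_finitePresentation
  have hW : IsOpen (Set.range (PrimeSpectrum.comap (algebraMap C C'))) := hopen.isOpen_range
  have hmem : (⟨𝔭, h𝔭prime⟩ : PrimeSpectrum C) ∈
      Set.range (PrimeSpectrum.comap (algebraMap C C')) := ⟨⟨𝔮, inferInstance⟩, rfl⟩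
  obtain ⟨_, ⟨u, rfl⟩, hu𝔭, huW⟩ :=
    PrimeSpectrum.isTopologicalBasis_basic_opens.exists_subset_of_mem_open hmem hW
  have hu𝔭' : u ∉ 𝔭 := hu𝔭
  -- the localizations
  let Cu := Localization.Away u
  let C'u := Localization.Away (algebraMap C C' u)
  let φ : Cu →+* C'u := IsLocalization.Away.map Cu C'u (algebraMap C C') u
  letI : Algebra Cu C'u := φ.toAlgebra
  have hφcomp : φ.comp (algebraMap C Cu) = (algebraMap C' C'u).comp (algebraMap C C') :=
    IsLocalization.map_comp _
  have hφflat : φ.Flat :=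
    RingHom.Flat.propertyIsLocal.localizationAwayPreserves (algebraMap C C') u Cu C'u
      (RingHom.flat_algebraMap_iff.mpr inferInstance)
  have hφff : φ.FaithfullyFlat := by
    rw [RingHom.FaithfullyFlat.iff_flat_and_comap_surjective]
    refine ⟨hφflat, fun P => ?_⟩
    set 𝔭₁ : PrimeSpectrum C := PrimeSpectrum.comap (algebraMap C Cu) P with h𝔭₁
    have hu₁ : u ∉ 𝔭₁.asIdeal := by
      intro hmem
      have h1 : algebraMap C Cu u ∈ P.asIdeal := hmem
      exact P.2.ne_top (Ideal.eq_top_of_isUnit_mem _ h1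
        (IsLocalization.Away.algebraMap_isUnit u))
    obtain ⟨𝔮₁, h𝔮₁⟩ := huW (show 𝔭₁ ∈ (PrimeSpectrum.basicOpen u : Set (PrimeSpectrum C)) from hu₁)
    have hu𝔮₁ : algebraMap C C' u ∉ 𝔮₁.asIdeal := by
      intro hmem
      apply hu₁
      rw [← h𝔮₁]
      exact hmem
    have hdisj : Disjoint (Submonoid.powers (algebraMap C C' u) : Set C') (𝔮₁.asIdeal : Set C') := by
      rw [Set.disjoint_left]
      rintro _ ⟨j, rfl⟩ hm
      exact hu𝔮₁ (Ideal.IsPrime.mem_of_pow_mem 𝔮₁.2 j hm)
    have hQprime : (𝔮₁.asIdeal.map (algebraMap C' C'u)).IsPrime :=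
      IsLocalization.isPrime_of_isPrime_disjoint (Submonoid.powers (algebraMap C C' u)) _ _
        𝔮₁.2 hdisj
    have hQcomap : (𝔮₁.asIdeal.map (algebraMap C' C'u)).comap (algebraMap C' C'u) = 𝔮₁.asIdeal :=
      IsLocalization.under_map_of_isPrime_disjoint (Submonoid.powers (algebraMap C C' u)) _
        𝔮₁.2 hdisj
    refine ⟨⟨_, hQprime⟩, ?_⟩
    apply PrimeSpectrum.localization_comap_injective Cu (Submonoid.powers u)
    ext x
    change φ (algebraMap C Cu x) ∈ 𝔮₁.asIdeal.map (algebraMap C' C'u) ↔ x ∈ 𝔭₁.asIdeal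
    have h1 : φ (algebraMap C Cu x) = algebraMap C' C'u (algebraMap C C' x) :=
      congrArg (fun ψ : C →+* C'u => ψ x) hφcomp
    rw [h1, ← h𝔮₁]
    change algebraMap C C' x ∈ (𝔮₁.asIdeal.map (algebraMap C' C'u)).comap (algebraMap C' C'u) ↔ _
    rw [hQcomap]
    rfl
  haveI : Module.FaithfullyFlat Cu C'u := RingHom.faithfullyFlat_algebraMap_iff.mp hφff
  -- transfer Koszul-regularity
  have hIC'u : LCI.IsKoszulRegularIdeal ((I.map (algebraMap C C')).map (algebraMap C' C'u)) :=
    isKoszulRegularIdeal_map_of_flat _ h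
  have heq : (I.map (algebraMap C Cu)).map (algebraMap Cu C'u) =
      (I.map (algebraMap C C')).map (algebraMap C' C'u) := by
    rw [Ideal.map_map, Ideal.map_map]
    congr 1
  have hICu : LCI.IsKoszulRegularIdeal (I.map (algebraMap C Cu)) := by
    apply isKoszulRegularIdeal_of_faithfullyFlat (B := C'u)
    rw [heq]
    exact hIC'u
  -- localize at the prime
  have hdisj𝔭 : Disjoint (Submonoid.powers u : Set C) (𝔭 : Set C) := by
    rw [Set.disjoint_left]
    rintro _ ⟨j, rfl⟩ hm
    exact hu𝔭' (Ideal.IsPrime.mem_of_pow_mem h𝔭prime j hm)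
  have h𝔭Cu : (𝔭.map (algebraMap C Cu)).IsPrime :=
    IsLocalization.isPrime_of_isPrime_disjoint (Submonoid.powers u) _ _ h𝔭prime hdisj𝔭
  obtain ⟨g₁, hg₁, l, hl, hgen⟩ := hICu ⟨_, h𝔭Cu⟩ (Ideal.map_mono hI𝔮)
  obtain ⟨a, s, rfl⟩ := IsLocalization.exists_mk'_eq (Submonoid.powers u) g₁
  have ha𝔭 : a ∉ 𝔭 := by
    intro ha
    apply hg₁
    exact (IsLocalization.mk'_mem_map_algebraMap_iff (Submonoid.powers u) _ _ _ _).mpr
      ⟨1, Submonoid.one_mem _, by simpa using ha⟩
  refine ⟨u * a, fun hm => (h𝔭prime.mem_or_mem hm).elim hu𝔭' ha𝔭, ?_⟩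
  have hunit : IsUnit (algebraMap C Cu (s : C)) := IsLocalization.map_units _ s
  have hassoc : Associated (algebraMap C Cu a) (IsLocalization.mk' Cu a s) := by
    refine Associated.symm ⟨hunit.unit, ?_⟩
    rw [IsUnit.unit_spec]
    exact IsLocalization.mk'_spec _ _ _
  haveI : IsLocalization.Away (u * a) (Localization.Away (IsLocalization.mk' Cu a s)) :=
    IsLocalization.Away.mul_of_associated u a (IsLocalization.mk' Cu a s) hassoc
  refine exists_away_of_model I (u * a) (Localization.Away (IsLocalization.mk' Cu a s)) l hl ?_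
  rw [IsScalarTower.algebraMap_eq C Cu (Localization.Away (IsLocalization.mk' Cu a s)),
    ← Ideal.map_map]
  exact hgen

end Groth.Agent.H8.SyntSrc
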