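import Mathlib
import Groth.Prelude

set_option autoImplicit false
set_option linter.style.haveILetI false

universe u

namespace Groth.Agent.H8.SyntSrc

/-- flatness of the quotient `D ⧸ K` over `C`: `K ⊓ I·D ≤ I·K`. -/
theorem inf_map_le_mul_of_flat (C D : Type u) [CommRing C] [CommRing D] [Algebra C D]
    (K : Ideal D) [Module.Flat C (D ⧸ K)] (I : Ideal C) :
    K ⊓ I.map (algebraMap C D) ≤ I.map (algebraMap C D) * K := by
  classical
  rintro z ⟨hzK, hzI⟩
  have hz' : z ∈ I • Submodule.span C (Set.range (id : D → D)) := by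
    rw [Set.range_id, Submodule.span_univ]
    have := Ideal.smul_top_eq_map (R := C) (S := D) I
    rw [this]
    exact hzI
  obtain ⟨a, ha, hsum⟩ := (Submodule.mem_ideal_smul_span_iff_exists_sum I id z).mp hz'
  -- the relation in the quotient
  let ι := {d : D // d ∈ a.support}
  have hsum' : ∑ i : ι, a i.1 • (i.1 : D) = z := by
    rw [← hsum, Finsupp.sum, ← Finset.sum_coe_sort a.support]
    rfl
  have hrel : ∑ i : ι, a i.1 • (Ideal.Quotient.mk K i.1 : D ⧸ K) = 0 := by
    have h1 : (Ideal.Quotient.mk K) z = 0 := Ideal.Quotient.eq_zero_iff_mem.mpr hzK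
    rw [← hsum', map_sum] at h1
    rw [← h1]
    apply Finset.sum_congr rfl
    intro i _
    rw [Algebra.smul_def, Algebra.smul_def, map_mul]
    rfl
  obtain ⟨k, b, y, hy, hb⟩ := Module.Flat.isTrivialRelation_of_sum_smul_eq_zero (R := C)
    (M := D ⧸ K) (f := fun i : ι => a i.1) (x := fun i : ι => Ideal.Quotient.mk K i.1) hrel
  replace hy : ∀ i : ι, Ideal.Quotient.mk K i.1 = ∑ j, b i j • y j := hy
  replace hb : ∀ j : Fin k, ∑ i : ι, a i.1 * b i j = 0 := hb
  choose yh hyh using fun j => Ideal.Quotient.mk_surjective (y j)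
  have hκ : ∀ i : ι, (i.1 : D) - ∑ j, b i j • yh j ∈ K := by
    intro i
    rw [← Ideal.Quotient.eq_zero_iff_mem, map_sub, map_sum, hy i, sub_eq_zero]
    apply Finset.sum_congr rfl
    intro j _
    rw [← hyh j, Algebra.smul_def, Algebra.smul_def, map_mul]
    rfl
  have hz2 : z = ∑ i : ι, a i.1 • ((i.1 : D) - ∑ j, b i j • yh j) := by
    have h2 : ∑ i : ι, a i.1 • (∑ j, b i j • yh j) = 0 := by
      simp_rw [Finset.smul_sum, smul_smul]
      rw [Finset.sum_comm]
      apply Finset.sum_eq_zero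
      intro j _
      rw [← Finset.sum_smul, hb j, zero_smul]
    simp_rw [smul_sub]
    rw [Finset.sum_sub_distrib, h2, sub_zero, hsum']
  rw [hz2]
  apply Ideal.sum_mem
  intro i _
  rw [Algebra.smul_def]
  exact Ideal.mul_mem_mul (Ideal.mem_map_of_mem _ (ha i.1)) (hκ i)

end Groth.Agent.H8.SyntSrc
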