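import Mathlib
import Groth.Prelude
import Groth.Agent.Lib.Helper8.RGCI.Main9254
import Groth.Agent.Lib.Helper8.RGCI.Main9147
import Groth.Agent.Lib.Helper8.KosQuot.S
import Groth.Agent.Lib.Helper8.KosQuot.Quot
import Groth.Agent.Lib.Helper8.SyntSrc.FlatInf

set_option autoImplicit false
set_option linter.style.haveILetI false

universe u

open CategoryTheory

attribute [local instance] HasDerivedCategory.standard

namespace Groth.Agent.H8.SyntSrc

open Groth.Agent.H8.KosIndep Groth.Agent.H8.KosDesc Groth.Agent.H8.LCIHom Groth.Agent.H8.RGCI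
  Groth.Agent.H8.KosQuot

section

variable (A C : Type u) [CommRing A] [CommRing C] [Algebra A C] [Algebra.Smooth A C]
  (I : Ideal C) (n c : ℕ) (F : Fin c → MvPolynomial (Fin n) C)

local notation "D" => MvPolynomial (Fin n) C
local notation "C'" => Synt.RelGCIRing C n c F
local notation "K'" => (Ideal.span (Set.range F) : Ideal (MvPolynomial (Fin n) C))
local notation "ID" => Ideal.map (algebraMap C (MvPolynomial (Fin n) C)) I

/-- if the quotient of a relative global complete intersection `C' = C[y]/(F)` by `I·C'` is LCI over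
`A` (with `C` smooth over `A`), then `I·C'` is a Koszul-regular ideal. -/
theorem isKoszulRegularIdeal_map_relGCIRing_aux (hF : Synt.IsRelGCI C n c F)
    (IC' : Ideal (Synt.RelGCIRing C n c F))
    (hIC' : IC' = Ideal.map (algebraMap C (Synt.RelGCIRing C n c F)) I)
    (hQ : LCI.IsLCI A (C' ⧸ IC')) : LCI.IsKoszulRegularIdeal IC' := by
  classical
  haveI : Module.Flat C C' := flat_of_isRelGCI F hF
  -- (b) the kernel of `D → Q` is Koszul-regular
  haveI : Algebra.Smooth C D :=
    { formallySmooth := inferInstance, finitePresentation := inferInstance }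
  haveI : Algebra.Smooth A D := Algebra.Smooth.comp A C D
  have hsurj : Function.Surjective ((Ideal.Quotient.mk IC').comp (Ideal.Quotient.mk K')) := by
    intro q
    obtain ⟨c', rfl⟩ := Ideal.Quotient.mk_surjective q
    obtain ⟨d, rfl⟩ := Ideal.Quotient.mk_surjective c'
    exact ⟨d, rfl⟩
  set J : Ideal D := RingHom.ker ((Ideal.Quotient.mk IC').comp (Ideal.Quotient.mk K')) with hJ
  have hJKR : LCI.IsKoszulRegularIdeal J :=
    isKoszulRegularIdeal_ker_of_smooth_of_isLCI A D (C' ⧸ IC') hsurj hQ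
  -- (c) `K'` is Koszul-regular
  have hKKR : LCI.IsKoszulRegularIdeal K' := by
    have h1 := isKoszulRegularIdeal_comap_of_seq (Ideal.Quotient.mk K')
      Ideal.Quotient.mk_surjective (List.ofFn F) (isKoszulRegularSeq_of_isRelGCI F hF)
      (by
        rw [Ideal.mk_ker]
        congr 1
        ext x
        simp [List.mem_ofFn]) ⊥ isKoszulRegularIdeal_bot
    rwa [← RingHom.ker_eq_comap_bot, Ideal.mk_ker] at h1
  -- (d) description of `J`
  have hIC'eq : IC' = (ID).map (Ideal.Quotient.mk K') := by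
    rw [hIC', Ideal.map_map]
    rfl
  have hJeq : J = K' ⊔ ID := by
    have h1 : J = (IC').comap (Ideal.Quotient.mk K') := by
      rw [hJ]
      ext x
      rw [RingHom.mem_ker, Ideal.mem_comap, RingHom.comp_apply]
      exact Ideal.Quotient.eq_zero_iff_mem
    rw [h1, hIC'eq, Ideal.comap_map_of_surjective _ Ideal.Quotient.mk_surjective,
      ← RingHom.ker_eq_comap_bot, Ideal.mk_ker, sup_comm]
  have hKJ : K' ≤ J := hJeq ▸ le_sup_left
  have hIDJ : ID ≤ J := hJeq ▸ le_sup_right
  -- (e) the conormal condition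
  have H : ∀ 𝔮 : Ideal D, 𝔮.IsPrime → J ≤ 𝔮 → ∀ x ∈ K', x ∈ 𝔮 * J → x ∈ 𝔮 * K' := by
    intro 𝔮 _ hJ𝔮 x hxK hx
    rw [hJeq, Ideal.mul_sup] at hx
    obtain ⟨k, hk, z, hz, rfl⟩ := Submodule.mem_sup.mp hx
    have hzID : z ∈ ID := Ideal.mul_le_right hz
    have hkK : k ∈ K' := Ideal.mul_le_right hk
    have hzK : z ∈ K' := by
      have := (K').sub_mem hxK hkK
      simpa using this
    have hz2 : z ∈ ID * K' := inf_map_le_mul_of_flat C D K' I ⟨hzK, hzID⟩
    exact Ideal.add_mem _ hk (Ideal.mul_mono_left (hIDJ.trans hJ𝔮) hz2)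
  -- (f) `I·C'` is Koszul-regular
  have h1 := isKoszulRegularIdeal_map_mk K' J hKJ hKKR hJKR H
  have h2 : J.map (Ideal.Quotient.mk K') = IC' := by
    rw [hJeq, Ideal.map_sup, Ideal.map_quotient_self, bot_sup_eq, hIC'eq]
  rwa [h2] at h1

theorem isKoszulRegularIdeal_map_relGCIRing (hF : Synt.IsRelGCI C n c F)
    (hQ : LCI.IsLCI A (C' ⧸ Ideal.map (algebraMap C (Synt.RelGCIRing C n c F)) I)) :
    LCI.IsKoszulRegularIdeal (Ideal.map (algebraMap C (Synt.RelGCIRing C n c F)) I) :=
  isKoszulRegularIdeal_map_relGCIRing_aux A C I n c F hF _ rfl hQ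

end

end Groth.Agent.H8.SyntSrc
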