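import Mathlib
import Groth.Prelude
import Groth.Agent.Lib.Helper8.RGCI.Main9150
import Groth.Agent.Lib.Helper8.SyntSrc.FlatLoc
import Groth.Agent.Lib.Helper8.SyntSrc.K2a

set_option autoImplicit false
set_option linter.style.haveILetI false

universe u

open CategoryTheory

attribute [local instance] HasDerivedCategory.standard

namespace Groth.Agent.H8.SyntSrc

open Groth.Agent.H8.KosIndep Groth.Agent.H8.KosDesc Groth.Agent.H8.LCIHom Groth.Agent.H8.RGCI
  Groth.Agent.H8.KosQuot

/-- the key local statement: `C` smooth over `A`, `B'` syntomic over `C ⧸ I` and LCI over `A`;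
then `I` is Koszul-regular at the image of every prime of `B'`. -/
theorem exists_away_of_syntomic (A C : Type u) [CommRing A] [CommRing C] [Algebra A C]
    [Algebra.Smooth A C] (I : Ideal C) (B' : Type u) [CommRing B'] [Algebra A B'] [Algebra C B']
    [Algebra (C ⧸ I) B'] [IsScalarTower C (C ⧸ I) B'] [IsScalarTower A C B']
    (hs : Synt.IsSyntomic (C ⧸ I) B') (hl : LCI.IsLCI A B') (𝔮' : Ideal B') [𝔮'.IsPrime] :
    ∃ g : C, g ∉ 𝔮'.under C ∧ ∃ l : List (Localization.Away g),
      LCI.IsKoszulRegularSeq (Localization.Away g) l ∧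
      I.map (algebraMap C (Localization.Away g)) = Ideal.span {x | x ∈ l} := by
  classical
  obtain ⟨g, hg, n, c, F, hF, ⟨e⟩⟩ := exists_away_algEquiv_quot_relGCI C I B' hs 𝔮'
  -- (a) `Q` is LCI over `A`
  haveI : IsScalarTower A C (Localization.Away g) := IsScalarTower.of_algebraMap_eq (fun a => by
    rw [IsScalarTower.algebraMap_apply A B' (Localization.Away g),
      IsScalarTower.algebraMap_apply A C B',
      ← IsScalarTower.algebraMap_apply C B' (Localization.Away g)])
  have hAway : LCI.IsLCI A (Localization.Away g) :=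
    isLCI_away_target A B' g (Localization.Away g) hl
  have hQ : LCI.IsLCI A (Synt.RelGCIRing C n c F ⧸
      I.map (algebraMap C (Synt.RelGCIRing C n c F))) :=
    isLCI_of_algEquiv (e.restrictScalars A) hAway
  have hICKR := isKoszulRegularIdeal_map_relGCIRing A C I n c F hF hQ
  haveI : Module.Flat C (Synt.RelGCIRing C n c F) := flat_of_isRelGCI F hF
  haveI : Algebra.FinitePresentation C (Synt.RelGCIRing C n c F) :=
    Algebra.FinitePresentation.quotient (Submodule.fg_span (Set.finite_range F))
  -- (g) the prime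
  have hdisj : Disjoint (Submonoid.powers g : Set B') (𝔮' : Set B') := by
    rw [Set.disjoint_left]
    rintro _ ⟨j, rfl⟩ hm
    exact hg (Ideal.IsPrime.mem_of_pow_mem inferInstance j hm)
  have h𝔮g : (𝔮'.map (algebraMap B' (Localization.Away g))).IsPrime :=
    IsLocalization.isPrime_of_isPrime_disjoint (Submonoid.powers g) _ _ inferInstance hdisj
  have h𝔮gc : (𝔮'.map (algebraMap B' (Localization.Away g))).under B' = 𝔮' :=
    IsLocalization.under_map_of_isPrime_disjoint (Submonoid.powers g) _ inferInstance hdisj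
  let ρ : Synt.RelGCIRing C n c F →+* Localization.Away g :=
    (e.symm.toAlgHom.toRingHom).comp
      (Ideal.Quotient.mk (I.map (algebraMap C (Synt.RelGCIRing C n c F))))
  have hρ : ρ.comp (algebraMap C (Synt.RelGCIRing C n c F)) =
      algebraMap C (Localization.Away g) := by
    ext x
    exact e.symm.commutes x
  set 𝔮₁ : Ideal (Synt.RelGCIRing C n c F) :=
    (𝔮'.map (algebraMap B' (Localization.Away g))).comap ρ with h𝔮₁
  haveI : 𝔮₁.IsPrime := Ideal.comap_isPrime ρ _
  have hunder : 𝔮₁.under C = 𝔮'.under C := by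
    rw [h𝔮₁, Ideal.under, Ideal.comap_comap, hρ,
      IsScalarTower.algebraMap_eq C B' (Localization.Away g), ← Ideal.comap_comap]
    change ((𝔮'.map (algebraMap B' (Localization.Away g))).under B').comap _ = _
    rw [h𝔮gc]
  have hI𝔮 : I ≤ 𝔮₁.under C := by
    rw [hunder]
    intro x hx
    change algebraMap C B' x ∈ 𝔮'
    rw [IsScalarTower.algebraMap_apply C (C ⧸ I) B', Ideal.Quotient.algebraMap_eq,
      Ideal.Quotient.eq_zero_iff_mem.mpr hx, map_zero]
    exact zero_mem _
  obtain ⟨g₂, hg₂, l, hl, hgen⟩ :=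
    exists_away_of_flat_of_map C (Synt.RelGCIRing C n c F) I hICKR 𝔮₁ hI𝔮
  exact ⟨g₂, hunder ▸ hg₂, l, hl, hgen⟩

end Groth.Agent.H8.SyntSrc
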