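import Mathlib
import Groth.Prelude
import Groth.Agent.Lib.Helper1.FFSource
import Groth.Agent.Lib.Helper8.SyntSrc.K2
import Groth.Agent.Lib.Helper8.Synt.Local2
import Groth.Agent.Lib.Helper8.LCIHom.FP
import Groth.Agent.Lib.Helper8.LCIHom.Local

set_option autoImplicit false
set_option linter.style.haveILetI false

universe u

open CategoryTheory

attribute [local instance] HasDerivedCategory.standard

namespace Groth.Agent.H8.SyntSrc

open Groth.Agent.H8.KosIndep Groth.Agent.H8.KosDesc Groth.Agent.H8.LCIHom Groth.Agent.H8.RGCI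
  Groth.Agent.H8.KosQuot Groth.Agent.H8.SyntLocal

/-- **LCI descends along faithfully flat syntomic covers of the source** (ring level). -/
theorem isLCI_of_syntomic_faithfullyFlat (A B B' : Type u) [CommRing A] [CommRing B] [CommRing B']
    [Algebra A B] [Algebra B B'] [Algebra A B'] [IsScalarTower A B B'] [Module.FaithfullyFlat B B']
    (hs : Synt.IsSyntomic B B') (hl : LCI.IsLCI A B') : LCI.IsLCI A B := by
  classical
  haveI hfpB' : Algebra.FinitePresentation A B' := finitePresentation_of_isLCI A B' hl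
  haveI : Algebra.FinitePresentation B B' := hs.2.1
  haveI hfpB : Algebra.FinitePresentation A B :=
    Groth.Agent.H1.FFSource.finitePresentation_of_faithfullyFlat (R := A) (A := B) (B := B')
  have hft : Algebra.FiniteType A B := inferInstance
  obtain ⟨m, π, hπ⟩ := Algebra.FiniteType.iff_quotient_mvPolynomial''.mp hft
  refine ⟨hft, m, π, hπ, ?_⟩
  intro 𝔭 h𝔭
  haveI : Algebra.Smooth A (MvPolynomial (Fin m) A) :=
    { formallySmooth := inferInstance, finitePresentation := inferInstance }
  letI : Algebra (MvPolynomial (Fin m) A) B' :=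
    ((algebraMap B B').comp π.toRingHom).toAlgebra
  have hker : ∀ x ∈ RingHom.ker π.toRingHom, ((algebraMap B B').comp π.toRingHom) x = 0 := by
    intro x hx
    have hx' : π.toRingHom x = 0 := hx
    rw [RingHom.comp_apply, hx', map_zero]
  letI : Algebra (MvPolynomial (Fin m) A ⧸ RingHom.ker π.toRingHom) B' :=
    (Ideal.Quotient.lift (RingHom.ker π.toRingHom) ((algebraMap B B').comp π.toRingHom)
      hker).toAlgebra
  haveI : IsScalarTower (MvPolynomial (Fin m) A)
      (MvPolynomial (Fin m) A ⧸ RingHom.ker π.toRingHom) B' := by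
    refine ⟨fun x y z => ?_⟩
    obtain ⟨y, rfl⟩ := Ideal.Quotient.mk_surjective y
    change (Ideal.Quotient.mk _ (x * y)) • z = x • ((Ideal.Quotient.mk _ y) • z)
    simp only [Algebra.smul_def]
    change ((algebraMap B B') (π (x * y))) * z =
      (algebraMap B B' (π x)) * ((algebraMap B B' (π y)) * z)
    rw [map_mul, map_mul, mul_assoc]
  haveI : IsScalarTower A (MvPolynomial (Fin m) A) B' :=
    IsScalarTower.of_algebraMap_eq (fun a => by
      change algebraMap A B' a = algebraMap B B' (π (algebraMap A _ a))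
      rw [π.commutes, ← IsScalarTower.algebraMap_apply])
  -- syntomic
  have hs' : Synt.IsSyntomic (MvPolynomial (Fin m) A ⧸ RingHom.ker π.toRingHom) B' := by
    rw [← isSyntomicHom_algebraMap_iff]
    let ε : (MvPolynomial (Fin m) A ⧸ RingHom.ker π.toRingHom) ≃+* B :=
      RingHom.quotientKerEquivOfSurjective (f := π.toRingHom) hπ
    have h1 : IsSyntomicHom ((algebraMap B B').comp ε.toRingHom) :=
      IsSyntomicHom.respectsIso.2 (algebraMap B B') ε (isSyntomicHom_algebraMap_iff.mpr hs)
    have h2 : algebraMap (MvPolynomial (Fin m) A ⧸ RingHom.ker π.toRingHom) B' =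
        (algebraMap B B').comp ε.toRingHom := by
      apply Ideal.Quotient.ringHom_ext
      refine RingHom.ext (fun x => ?_)
      rfl
    rw [h2]
    exact h1
  -- the prime
  have h𝔭B : (𝔭.asIdeal.map π.toRingHom).IsPrime :=
    Ideal.map_isPrime_of_surjective hπ h𝔭
  have hcm : (𝔭.asIdeal.map π.toRingHom).comap π.toRingHom = 𝔭.asIdeal := by
    rw [Ideal.comap_map_of_surjective π.toRingHom hπ, ← RingHom.ker_eq_comap_bot]
    exact sup_eq_left.mpr h𝔭
  obtain ⟨𝔮', h𝔮'⟩ := PrimeSpectrum.comap_surjective_of_faithfullyFlat (A := B) (B := B')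
    ⟨_, h𝔭B⟩
  have hunder : 𝔮'.asIdeal.under (MvPolynomial (Fin m) A) = 𝔭.asIdeal := by
    have h1 : 𝔮'.asIdeal.comap (algebraMap B B') = 𝔭.asIdeal.map π.toRingHom :=
      congrArg PrimeSpectrum.asIdeal h𝔮'
    change 𝔮'.asIdeal.comap ((algebraMap B B').comp π.toRingHom) = _
    rw [← Ideal.comap_comap, h1, hcm]
  obtain ⟨g, hg, l, hl, hgen⟩ := exists_away_of_syntomic A (MvPolynomial (Fin m) A)
    (RingHom.ker π.toRingHom) B' hs' hl 𝔮'.asIdeal
  exact ⟨g, hunder ▸ hg, l, hl, hgen⟩

/-- ring-hom form. -/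
theorem isLCIHom_of_comp_syntomic {R A B : Type u} [CommRing R] [CommRing A] [CommRing B]
    (φ : R →+* A) (ψ : A →+* B) (h1 : ψ.FaithfullyFlat) (h4 : IsSyntomicHom ψ)
    (h3 : IsLCIHom (ψ.comp φ)) : IsLCIHom φ := by
  letI := φ.toAlgebra
  letI := ψ.toAlgebra
  letI := (ψ.comp φ).toAlgebra
  haveI : IsScalarTower R A B := IsScalarTower.of_algebraMap_eq (fun _ => rfl)
  haveI : Module.FaithfullyFlat A B := h1
  exact isLCI_of_syntomic_faithfullyFlat R A B h4 h3

end Groth.Agent.H8.SyntSrc
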