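import Mathlib
import Groth.Prelude
import Groth.Agent.Lib.Helper1.SourceDescent
import Groth.Agent.Lib.Helper8.SyntSrc.Ring
import Groth.Agent.Lib.Helper8.Synt.Kos2
import Groth.Agent.Lib.Helper8.GCI.Smooth
import Groth.Agent.Lib.Helper8.LCIHom.KAt2
import Groth.Agent.Lib.Helper8.LCIHom.Mor

set_option autoImplicit false
set_option linter.style.haveILetI false

universe u

open CategoryTheory AlgebraicGeometry

attribute [local instance] HasDerivedCategory.standard

namespace Groth.Agent.H8.SyntSrc

open Groth.Agent.H8.LCIHom Groth.Agent.H8.SyntLocal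

lemma isSyntomicHom_containsIdentities : RingHom.ContainsIdentities @IsSyntomicHom := by
  intro R _
  haveI : Algebra.Smooth R R :=
    { formallySmooth := inferInstance, finitePresentation := inferInstance }
  have h : Synt.IsSyntomic R R :=
    ⟨inferInstance, inferInstance, fun p =>
      Groth.Agent.H8.GCI.isLCIOver_of_smooth (p.asIdeal.Fiber R)⟩
  exact isSyntomicHom_algebraMap_iff.mpr h

theorem syntomicP_iff {X S : Scheme.{u}} (f : X ⟶ S) : SyntomicP f ↔ Flat f ∧ LCIP f := by
  rw [← isSyntomicMor_iff, ← main9758, lcip_iff_forall_isKoszulAt]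

instance : SyntomicP.{u}.IsStableUnderComposition :=
  ⟨fun f g hf hg => by
    rw [syntomicP_iff] at hf hg ⊢
    haveI := hf.1
    haveI := hg.1
    exact ⟨inferInstance, lcip_comp f g hf.2 hg.2⟩⟩

/-- **LCI is syntomic-local on the source** (descent direction). -/
theorem lcip_of_comp_syntomic {X' X Y : Scheme.{u}} (g : X' ⟶ X) (hg : SyntomicP g)
    [Surjective g] (f : X ⟶ Y) (h : LCIP (g ≫ f)) : LCIP f := by
  have hg' := (syntomicP_iff g).mp hg
  haveI : Flat g := hg'.1
  haveI : LocallyOfFinitePresentation g := locallyOfFinitePresentation_of_lcip g hg'.2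
  exact Groth.Agent.H1.SourceDescent.descends (P := LCIP) (W := SyntomicP)
    isSyntomicHom_containsIdentities
    (fun φ ψ h1 _ h4 h3 => isLCIHom_of_comp_syntomic φ ψ h1 h4 h3) g f hg h

end Groth.Agent.H8.SyntSrc
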